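import Groth.Agent.ExistEasy.ChowNR.Exists
import Groth.Agent.H23.RedSub
import Groth.Agent.S2422
import Groth.Agent.S5683
import Groth.Agent.CurveCohLib.Proper
import Groth.Prelude.Def_Pi1

/-!
# A projective variety with the same classes
-/

set_option autoImplicit false
set_option linter.style.haveILetI false
set_option backward.isDefEq.respectTransparency false
set_option backward.isDefEq.respectTransparency.types false
set_option maxHeartbeats 1000000

universe u

open CategoryTheory CategoryTheory.Limits AlgebraicGeometry TopologicalSpace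

namespace Groth.Agent.PicTorsFF

open Groth.Agent

/-- A normal proper variety receives a projective one, with injective pullback of classes. -/
theorem exists_projective {k : Type u} [Field k] {X : Scheme.{u}} (f : X ⟶ Spec (CommRingCat.of k)) [IsProper f]
    [IsIntegral X] (hX : Pi1.IsNormalScheme X) :
    ∃ (N : ℕ) (Z : Scheme.{u}) (q : Z ⟶ X) (i : Z ⟶ CohB1.ProjSpace N k), IsIntegral Z ∧ IsClosedImmersion i ∧
      IsProper q ∧ i ≫ CohB1.ProjSpace.toSpec N k = q ≫ f ∧
      ∀ M : X.Modules, PicF.IsInvertible M →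
        Nonempty ((Scheme.Modules.pullback q).obj M ≅ Coh.structureModule Z) → Nonempty (M ≅ Coh.structureModule X) := by
  letI : X.Over (Spec (CommRingCat.of k)) := ⟨f⟩
  haveI : IsProper (X ↘ Spec (CommRingCat.of k)) := ‹IsProper f›
  haveI := CurveCohLib.isNoetherian_of_proper (k := k) (X := X)
  obtain ⟨N, X', π, p, hp, hpw, hπ, U, hU, hUiso⟩ := ExistEasy.ChowNR.exists_chow f
  haveI := hp; haveI := hπ; haveI := hUiso
  have hgU : genericPoint X ∈ U := by
    obtain ⟨x, hx⟩ := hU
    exact (genericPoint_specializes x).mem_open U.isOpen hx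
  obtain ⟨w, hw⟩ : ∃ w, (π ∣_ U) w = (⟨genericPoint X, hgU⟩ : U) :=
    ((Scheme.homeoOfIso (asIso (π ∣_ U))).surjective ⟨genericPoint X, hgU⟩)
  let z₀ : X' := w.1
  have hz₀ : π z₀ = genericPoint X := (morphismRestrict_base_coe π U w).symm.trans (congrArg Subtype.val hw)
  haveI hst : IsIso (π.stalkMap z₀) := by
    have h : IsIso ((π ∣_ U).stalkMap w) := inferInstance
    exact (((MorphismProperty.isomorphisms CommRingCat).arrow_mk_iso_iff (morphismRestrictStalkMap π U w)).1 h :)
  let C : Closeds X' := ⟨closure {z₀}, isClosed_closure⟩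
  let J := Scheme.IdealSheafData.vanishingIdeal C
  let Z := J.subscheme
  let j : Z ⟶ X' := J.subschemeι
  have hrj : Set.range j = closure {z₀} := by
    rw [Scheme.IdealSheafData.range_subschemeι, Scheme.IdealSheafData.coe_support_vanishingIdeal]
    rfl
  haveI : IsReduced Z := H23.RedSub.isReduced_vanishingIdeal C
  haveI : IrreducibleSpace Z := by
    refine (irreducibleSpace_def _).2 ?_
    refine ⟨?_, ?_⟩
    · obtain ⟨z, -⟩ := hrj.ge (subset_closure (Set.mem_singleton z₀))
      exact ⟨z, trivial⟩
    · have h2 : IsIrreducible (Set.range j) := by rw [hrj]; exact isIrreducible_singleton.closure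
      intro u v hu hv hun hvn
      obtain ⟨u', hu', rfl⟩ := j.isEmbedding.isInducing.isOpen_iff.1 hu
      obtain ⟨v', hv', rfl⟩ := j.isEmbedding.isInducing.isOpen_iff.1 hv
      obtain ⟨a, -, ha⟩ := hun
      obtain ⟨b, -, hb⟩ := hvn
      obtain ⟨_, ⟨c, rfl⟩, hc⟩ := h2.isPreirreducible u' v' hu' hv' ⟨j a, ⟨a, rfl⟩, ha⟩ ⟨j b, ⟨b, rfl⟩, hb⟩
      exact ⟨c, trivial, hc⟩
  haveI : IsIntegral Z := isIntegral_of_irreducibleSpace_of_isReduced _
  have hjgen : j (genericPoint Z) = z₀ := by
    obtain ⟨z, hz⟩ := hrj.ge (subset_closure (Set.mem_singleton z₀))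
    have h1 : j (genericPoint Z) ⤳ z₀ := hz ▸ (genericPoint_specializes z).map j.continuous
    have h2 : z₀ ⤳ j (genericPoint Z) := specializes_iff_mem_closure.2 (hrj.subset ⟨_, rfl⟩)
    exact (h1.antisymm h2).eq
  let q := j ≫ π
  haveI : IsProper q := inferInstance
  refine ⟨N, Z, q, j ≫ p, inferInstance, inferInstance, inferInstance, by rw [Category.assoc, hpw, Category.assoc], ?_⟩
  have hqgen : q (genericPoint Z) = genericPoint X := by
    rw [Scheme.Hom.comp_apply, hjgen, hz₀]
  have hdom : q.base (genericPoint Z) ⤳ genericPoint X := hqgen ▸ specializes_rfl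
  haveI : IsLocallyNoetherian Z := LocallyOfFiniteType.isLocallyNoetherian (q ≫ f)
  have hsurj : Function.Surjective (CohIII.stalkToFunctionField q (genericPoint X) hdom) := by
    have h1 : Function.Surjective (q.stalkMap (genericPoint Z)).hom := by
      rw [Scheme.Hom.stalkMap_comp, CommRingCat.hom_comp, RingHom.coe_comp]
      haveI : IsIso (π.stalkMap (j (genericPoint Z))) := by rw [hjgen]; exact hst
      exact (j.stalkMap_surjective _).comp (ConcreteCategory.bijective_of_isIso (π.stalkMap (j (genericPoint Z)))).2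
    have h2 : Function.Bijective (X.presheaf.stalkSpecializes hdom).hom := by
      haveI : IsIso (X.presheaf.stalkSpecializes hdom) :=
        ⟨X.presheaf.stalkSpecializes (hqgen.symm ▸ specializes_rfl), by simp, by simp⟩
      exact ConcreteCategory.bijective_of_isIso _
    exact h1.comp h2.2
  have happ := S2422.result hX q hdom fun x _ => hsurj x
  intro M hM hM'
  exact S5683.result q (fun V => (ConcreteCategory.isIso_iff_bijective _).1 (happ V)) M hM hM'

end Groth.Agent.PicTorsFF
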