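import Groth.Agent.InsepPic.Limit
import Groth.Agent.S0591
import Groth.Agent.EtFound.Descent
import Mathlib.FieldTheory.Finite.Basic
import Mathlib.AlgebraicGeometry.Noetherian

/-!
# Models over finite fields
-/

set_option autoImplicit false
set_option linter.style.haveILetI false
set_option backward.isDefEq.respectTransparency false
set_option backward.isDefEq.respectTransparency.types false
set_option maxHeartbeats 1000000

universe u

open CategoryTheory CategoryTheory.Limits AlgebraicGeometry Opposite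
open scoped Groth.Agent.H23.PicMul

namespace Groth.Agent.PicTorsFF

open Groth.Agent Groth.Agent.InsepPic

/-- A finitely generated subextension of an algebraic extension of a finite field is finite. -/
theorem finite_adj {κ k : Type u} [Field κ] [Finite κ] [Field k] [Algebra κ k] [Algebra.IsIntegral κ k]
    (s : Finset k) : Finite (adj (k := κ) k s) := by
  haveI : FiniteDimensional κ (adj (k := κ) k s) :=
    IntermediateField.finiteDimensional_adjoin fun x _ => Algebra.IsIntegral.isIntegral x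
  exact Module.finite_of_finite κ

/-- A model over a finite field, from an algebraic extension of a finite field. -/
theorem exists_model_aux {κ k : Type u} [Field κ] [Finite κ] [Field k] [Algebra κ k] [Algebra.IsIntegral κ k]
    {X : Scheme.{u}} (f : X ⟶ Spec (CommRingCat.of k)) [IsProper f] (L N : X.Modules) (hL : PicF.IsInvertible L)
    (hN : PicF.IsInvertible N) :
    ∃ (k₁ : Type u) (_ : Field k₁) (_ : Finite k₁) (_ : Algebra k₁ k) (X₁ : Scheme.{u})
      (f₁ : X₁ ⟶ Spec (CommRingCat.of k₁)) (π : X ⟶ X₁), IsProper f₁ ∧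
      IsPullback π f f₁ (Spec.map (CommRingCat.ofHom (algebraMap k₁ k))) ∧
      ∃ L₁ N₁ : X₁.Modules, PicF.IsInvertible L₁ ∧ PicF.IsInvertible N₁ ∧
        Nonempty ((Scheme.Modules.pullback π).obj L₁ ≅ L) ∧ Nonempty ((Scheme.Modules.pullback π).obj N₁ ≅ N) := by
  classical
  haveI : IsLocallyNoetherian (Spec (CommRingCat.of k)) := inferInstance
  haveI : LocallyOfFinitePresentation f := LocallyOfFinitePresentation.iff_locallyOfFiniteType.mpr inferInstance
  haveI : PreservesLimitsOfSize.{u, u} Scheme.Spec.{u} := ΓSpec.adjunction.rightAdjoint_preservesLimits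
  haveI : ∀ s t : (Finset k)ᵒᵖ, ∀ h : s ⟶ t, IsAffineHom ((base (k := κ) k).map h) := fun s t h =>
    inferInstanceAs (IsAffineHom (Spec.map _))
  haveI : ∀ s, CompactSpace ((base (k := κ) k).obj s) := fun s =>
    inferInstanceAs (CompactSpace (Spec ((rings (k := κ) k).obj s.unop)))
  haveI : ∀ s, QuasiSeparatedSpace ((base (k := κ) k).obj s) := fun s =>
    inferInstanceAs (QuasiSeparatedSpace (Spec ((rings (k := κ) k).obj s.unop)))
  obtain ⟨i, Y, g, e, hg, hgq, hgs, hsq⟩ := S0591.result (base (k := κ) k) (baseCone (k := κ) k)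
    (isLimitOfPreserves Scheme.Spec (InsepPic.isColimit (k := κ) k).op) X f
  let K₀ := adj (k := κ) k i.unop
  haveI : Finite K₀ := finite_adj i.unop
  let g₀ : Y ⟶ Spec (CommRingCat.of K₀) := g
  have hsq₀ : IsPullback e f g₀ (Spec.map (CommRingCat.ofHom (algebraMap K₀ k))) := hsq
  let b₀ := Spec.map (CommRingCat.ofHom (algebraMap K₀ k))
  haveI : IsProper g₀ := by
    haveI := EtFound.fpqc_isProper.{u}
    haveI : Flat b₀ := by
      rw [HasRingHomProperty.Spec_iff (P := @Flat)]
      show (algebraMap K₀ k).Flat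
      rw [RingHom.flat_algebraMap_iff]
      infer_instance
    haveI : Surjective b₀ := ⟨fun z => ⟨IsLocalRing.closedPoint k,
      @Subsingleton.elim ↥(Spec (CommRingCat.of K₀)) inferInstance _ _⟩⟩
    exact MorphismProperty.of_isPullback_of_descendsAlong
      (Q := (@Surjective ⊓ @Flat ⊓ @QuasiCompact : MorphismProperty Scheme.{u})) (P := @IsProper) hsq₀.flip
      ⟨⟨inferInstanceAs (Surjective b₀), inferInstanceAs (Flat b₀)⟩, inferInstanceAs (QuasiCompact b₀)⟩ ‹IsProper f›
  haveI : Algebra.IsIntegral K₀ k := ⟨fun x => (Algebra.IsIntegral.isIntegral (R := κ) x).tower_top⟩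
  haveI : CompactSpace Y := QuasiCompact.compactSpace_of_compactSpace g₀
  haveI : QuasiSeparatedSpace Y := quasiSeparatedSpace_of_quasiSeparated g₀
  let E : X ≅ GalPic.bc g₀ k := hsq₀.isoPullback
  have hc := InsepPic.isLimit g₀ k
  obtain ⟨jL, ML, hML, ⟨eL⟩⟩ := LimPic.exists_invertible hc ((Scheme.Modules.pullback E.inv).obj L)
    (PicClLib.isInvertible_pullback _ hL)
  obtain ⟨jN, MN, hMN, ⟨eN⟩⟩ := LimPic.exists_invertible hc ((Scheme.Modules.pullback E.inv).obj N)
    (PicClLib.isInvertible_pullback _ hN)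
  let j : (Finset k)ᵒᵖ := op (jL.unop ∪ jN.unop)
  let aL : j ⟶ jL := (homOfLE Finset.subset_union_left).op
  let aN : j ⟶ jN := (homOfLE Finset.subset_union_right).op
  let K₁ := adj (k := K₀) k j.unop
  haveI : Finite K₁ := finite_adj j.unop
  let π : X ⟶ GalPic.bc g₀ K₁ := E.hom ≫ (InsepPic.cone g₀ k).π.app j
  refine ⟨K₁, inferInstance, inferInstance, inferInstance, GalPic.bc g₀ K₁, pullback.snd _ _, π,
    MorphismProperty.pullback_snd (P := @IsProper) _ _ inferInstance, ?_, ?_⟩
  · have h1 : IsPullback E.hom f (pullback.snd g₀ (Spec.map (CommRingCat.ofHom (algebraMap K₀ k)))) (𝟙 _) :=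
      IsPullback.of_horiz_isIso ⟨by rw [Category.comp_id]; exact hsq₀.isoPullback_hom_snd⟩
    have h2 := h1.paste_horiz (InsepPic.cone_isPullback g₀ k j)
    rw [Category.id_comp] at h2
    exact h2
  · refine ⟨(Scheme.Modules.pullback ((sys g₀ k).map aL)).obj ML,
      (Scheme.Modules.pullback ((sys g₀ k).map aN)).obj MN, PicClLib.isInvertible_pullback _ hML,
      PicClLib.isInvertible_pullback _ hMN, H23.PicMul.cl_eq_iff.1 ?_, H23.PicMul.cl_eq_iff.1 ?_⟩
    · show PicF.pullCl π (PicF.pullCl ((sys g₀ k).map aL) (PicF.cl ML)) = PicF.cl L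
      rw [← PicLoc.pullCl_comp, show π ≫ (sys g₀ k).map aL = E.hom ≫ (InsepPic.cone g₀ k).π.app jL by
        rw [Category.assoc]; exact congrArg (E.hom ≫ ·) ((InsepPic.cone g₀ k).w aL), PicLoc.pullCl_comp,
        show PicF.pullCl ((InsepPic.cone g₀ k).π.app jL) (PicF.cl ML) = PicF.pullCl E.inv (PicF.cl L) from
          H23.PicMul.cl_eq_iff.2 ⟨eL⟩, ← PicLoc.pullCl_comp, E.hom_inv_id, PicLoc.pullCl_id]
    · show PicF.pullCl π (PicF.pullCl ((sys g₀ k).map aN) (PicF.cl MN)) = PicF.cl N
      rw [← PicLoc.pullCl_comp, show π ≫ (sys g₀ k).map aN = E.hom ≫ (InsepPic.cone g₀ k).π.app jN by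
        rw [Category.assoc]; exact congrArg (E.hom ≫ ·) ((InsepPic.cone g₀ k).w aN), PicLoc.pullCl_comp,
        show PicF.pullCl ((InsepPic.cone g₀ k).π.app jN) (PicF.cl MN) = PicF.pullCl E.inv (PicF.cl N) from
          H23.PicMul.cl_eq_iff.2 ⟨eN⟩, ← PicLoc.pullCl_comp, E.hom_inv_id, PicLoc.pullCl_id]

/-- A field all of whose elements are fixed by a power of Frobenius is algebraic over a finite subfield. -/
theorem exists_finite_subfield (p : ℕ) [Fact p.Prime] (k : Type u) [Field k] [CharP k p]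
    (halg : ∀ x : k, ∃ n : ℕ, 0 < n ∧ x ^ (p ^ n) = x) :
    ∃ (κ : Subfield k), Finite κ ∧ Algebra.IsIntegral κ k := by
  let φ : ZMod p →+* k := ZMod.castHom dvd_rfl k
  refine ⟨φ.fieldRange, Finite.of_surjective φ.rangeRestrictField fun y => ?_, ⟨fun x => ?_⟩⟩
  · obtain ⟨_, z, rfl⟩ := y
    exact ⟨z, rfl⟩
  · obtain ⟨n, hn, hx⟩ := halg x
    refine ⟨Polynomial.X ^ (p ^ n) - Polynomial.X, Polynomial.monic_X_pow_sub ?_, by simp [hx]⟩
    rw [Polynomial.degree_X]
    exact_mod_cast Nat.one_lt_pow hn.ne' (Fact.out : p.Prime).one_lt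

end Groth.Agent.PicTorsFF
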