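import Groth.Agent.PicTorsFF.FieldSpan
import Groth.Agent.PicTorsFF.Model
import Groth.Agent.S4277
import Groth.Agent.S4281
import Groth.Agent.S4286
import Groth.Agent.S12111
import Groth.Agent.Nakai.Big
import Groth.Agent.Lib.AVAmple
import Groth.Agent.FBaseLib.Basic
import Groth.Agent.FinPtsReg.Main
import Groth.Agent.Pic13Lib.NumTrivBasic
import Groth.Agent.InvX.GenEpi
import Groth.Agent.SeesawX.Unit
import Groth.Agent.CurveCohLib.Proper
import Mathlib.CategoryTheory.Abelian.Basic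

/-!
# Numerically trivial classes on a projective variety over the algebraic closure of a finite field are torsion
-/

set_option autoImplicit false
set_option linter.style.haveILetI false
set_option backward.isDefEq.respectTransparency false
set_option backward.isDefEq.respectTransparency.types false
set_option maxHeartbeats 1000000

universe u

open CategoryTheory CategoryTheory.Limits AlgebraicGeometry
open scoped Groth.Agent.H23.PicMul
open Groth.Agent.H23

namespace Groth.Agent.PicTorsFF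

open Groth.Agent

/-- Two generated submodules with the same sections are isomorphic. -/
theorem cl_eq_of_sections {X : Scheme.{u}} {A A' M : X.Modules} (g : A ⟶ M) [Mono g] (g' : A' ⟶ M) [Mono g']
    {J J' : Type u} {s : J → Γ(A, ⊤)} (hs : ProjUP.GeneratedBy A s) {s' : J' → Γ(A', ⊤)}
    (hs' : ProjUP.GeneratedBy A' s') (h : Set.range (g.app ⊤) = Set.range (g'.app ⊤)) :
    PicF.cl A = PicF.cl A' := by
  have key : ∀ {A A' : X.Modules} (g : A ⟶ M) (g' : A' ⟶ M) {J : Type u} {s : J → Γ(A, ⊤)},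
      ProjUP.GeneratedBy A s → Mono g' → Set.range (g.app ⊤) ⊆ Set.range (g'.app ⊤) →
      ∃ t : A ⟶ A', t ≫ g' = g := by
    intro A A' g g' J s hs hg' hle
    haveI := hg'
    choose t ht using fun j => hle ⟨s j, rfl⟩
    let p : (∐ fun _ : J => Coh.structureModule X) ⟶ A := Sigma.desc fun j => InvX.ofSect (s j)
    haveI : Epi p := InvX.epi_of_generated hs p (fun j => Sigma.ι (fun _ : J => Coh.structureModule X) j)
      fun j => (congrArg InvX.one (Sigma.ι_desc _ _)).trans (InvX.one_ofSect _)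
    let q : (∐ fun _ : J => Coh.structureModule X) ⟶ A' := Sigma.desc fun j => InvX.ofSect (t j)
    have hpq : p ≫ g = q ≫ g' := Sigma.hom_ext _ _ fun j => by
      rw [Sigma.ι_desc_assoc, Sigma.ι_desc_assoc]
      refine (SeesawX.hom_ext_one _ _ ?_)
      show g.app ⊤ (InvX.one (InvX.ofSect (s j))) = g'.app ⊤ (InvX.one (InvX.ofSect (t j)))
      rw [InvX.one_ofSect, InvX.one_ofSect, ht]
    haveI : StrongEpi p := strongEpi_of_epi p
    exact ⟨(CommSq.mk hpq.symm).lift, CommSq.fac_right _⟩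
  obtain ⟨t, ht⟩ := key g g' hs inferInstance h.subset
  obtain ⟨t', ht'⟩ := key g' g hs' inferInstance h.ge
  refine H23.PicMul.cl_eq_iff.2 ⟨⟨t, t', ?_, ?_⟩⟩
  · rw [← cancel_mono g, Category.assoc, ht', ht, Category.id_comp]
  · rw [← cancel_mono g', Category.assoc, ht, ht', Category.id_comp]

variable (p : ℕ) [Fact p.Prime] {k : Type u} [Field k] [IsAlgClosed k] [CharP k p]

/-- Numerically trivial classes on a projective variety are torsion. -/
theorem exists_pow_eq_one_of_projective (halg : ∀ x : k, ∃ n : ℕ, 0 < n ∧ x ^ (p ^ n) = x) {X : Scheme.{u}}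
    [X.Over (Spec (CommRingCat.of k))] [IsProper (X ↘ Spec (CommRingCat.of k))] [IsIntegral X] (N : ℕ)
    (i : X ⟶ CohB1.ProjSpace N k) [IsClosedImmersion i]
    (hi : i ≫ CohB1.ProjSpace.toSpec N k = X ↘ Spec (CommRingCat.of k))
    {L : X.Modules} (hL : Pic13Lib.NumTriv.IsNT k L) : ∃ d : ℕ, 0 < d ∧ PicF.cl L ^ d = 1 := by
  classical
  haveI := CurveCohLib.isNoetherian_of_proper (k := k) (X := X)
  have hb := S4281.result k X
  obtain ⟨⟨m, hm⟩, -⟩ := S4286.result k N X i hi _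
    (fun F (hF : PicF.IsInvertible F ∧ Pic13.IsTauEquivZero k X F) => AmpleVan.isCoh_invertible hF.1) hb
  have hgg : ∀ F, Pic13Lib.NumTriv.IsNT k F → Curv2.IsGloballyGenerated (Pic13.twistOn k i F m) := fun F hF =>
    (S12111.result k N i F (AmpleVan.isCoh_invertible hF.1) m
      (hm F ⟨hF.1, S4277.result k X F hF.1 hF.2⟩) m le_rfl).2
  let O₁ := (Scheme.Modules.pullback i).obj (Twist.twistProjSpace N k m)
  have hO₁ : PicF.IsInvertible O₁ := PicClLib.isInvertible_pullback _ (FinPtsReg.isInvertible_twistProjSpace _)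
  obtain ⟨κ, hκ, hint⟩ := exists_finite_subfield p k halg
  haveI := hκ; haveI := hint
  obtain ⟨k₁, _, _, _, X₁, f₁, π, hf₁, H, L₁, N₁, hL₁, hN₁, ⟨eL⟩, ⟨eN⟩⟩ :=
    exists_model_aux (κ := κ) (X ↘ Spec (CommRingCat.of k)) L O₁ hL.1 hO₁
  haveI := hf₁
  letI : X₁.Over (Spec (CommRingCat.of k₁)) := ⟨f₁⟩
  haveI : IsProper (X₁ ↘ Spec (CommRingCat.of k₁)) := hf₁
  haveI := CurveCohLib.isNoetherian_of_proper (k := k₁) (X := X₁)
  haveI : X₁.IsSeparated := AmpleVan.isSeparated_of_proper (A := k₁)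
  let b := Spec.map (CommRingCat.ofHom (algebraMap k₁ k))
  haveI : Flat b := by
    rw [HasRingHomProperty.Spec_iff (P := @Flat)]
    show (algebraMap k₁ k).Flat
    rw [RingHom.flat_algebraMap_iff]
    infer_instance
  haveI : Surjective b := ⟨fun z => ⟨IsLocalRing.closedPoint k,
    @Subsingleton.elim ↥(Spec (CommRingCat.of k₁)) inferInstance _ _⟩⟩
  haveI : Flat π := MorphismProperty.of_isPullback (P := @Flat) H.flip ‹Flat b›
  haveI : Surjective π := MorphismProperty.of_isPullback (P := @Surjective) H.flip ‹Surjective b›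
  haveI : IsReduced X₁ := FBaseLib.isReduced_of_flat_surjective π
  haveI : IrreducibleSpace X₁ := by
    haveI : PreirreducibleSpace X₁ := ⟨by
      rw [← π.surjective.range_eq, ← Set.image_univ]
      exact (IrreducibleSpace.isIrreducible_univ X).isPreirreducible.image _ π.continuous.continuousOn⟩
    exact ⟨⟨π (genericPoint X)⟩⟩
  haveI : IsIntegral X₁ := isIntegral_of_irreducibleSpace_of_isReduced _
  have hcL : PicF.pullCl π (PicF.cl L₁) = PicF.cl L := PicMul.cl_eq_iff.2 ⟨eL⟩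
  have hcN : PicF.pullCl π (PicF.cl N₁) = PicF.cl O₁ := PicMul.cl_eq_iff.2 ⟨eN⟩
  obtain ⟨L₁', hL₁', ⟨eL₁⟩⟩ := PicInv.exists_inverse hL₁
  have h11 : PicF.cl L₁ * PicF.cl L₁' = 1 := by
    rw [← PicMul.cl_tensor, PicMul.one_def]; exact PicMul.cl_eq_iff.2 ⟨eL₁⟩
  have hL' : Pic13Lib.NumTriv.IsNT k ((Scheme.Modules.pullback π).obj L₁') :=
    hL.inverse k (PicClLib.isInvertible_pullback _ hL₁') (by
      show PicF.cl L * PicF.pullCl π (PicF.cl L₁') = 1
      rw [← hcL, ← PicMul.pullCl_mul, h11, PicMul.pullCl_one])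
  -- generation downstairs
  have gen : ∀ F : X₁.Modules, PicF.IsInvertible F → Pic13Lib.NumTriv.IsNT k ((Scheme.Modules.pullback π).obj F) →
      ∀ x : X₁, ∃ s : Γ(CohB1.tensorMod F N₁, ⊤), x ∈ TrivBasic.locus s := by
    intro F hF hFn x
    obtain ⟨y, rfl⟩ := π.surjective x
    have hT := InvX.isInvertible_tensorMod hF hN₁
    have hc : PicF.cl (Pic13.twistOn k i ((Scheme.Modules.pullback π).obj F) m) =
        PicF.cl ((Scheme.Modules.pullback π).obj (CohB1.tensorMod F N₁)) := by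
      show PicF.cl (CohB1.tensorMod ((Scheme.Modules.pullback π).obj F) O₁) = PicF.pullCl π (PicF.cl (CohB1.tensorMod F N₁))
      rw [PicMul.cl_tensor, PicMul.cl_tensor, PicMul.pullCl_mul, hcN]
      rfl
    have hg := AmpleX.isGloballyGenerated_of_iso (PicMul.cl_eq_iff.1 hc).some (hgg _ hFn)
    obtain ⟨σ, hσ⟩ := GenLocusGG.exists_mem_locus (PicClLib.isInvertible_pullback _ hT) hg y
    exact exists_mem_locus H hT hσ
  let A : ℕ → X₁.Modules := fun n => CohB1.tensorMod (CohB1.tensorPow L₁' n) N₁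
  let B : ℕ → X₁.Modules := fun n => CohB1.tensorMod (CohB1.tensorPow L₁ n) N₁
  let M := CohB1.tensorMod N₁ N₁
  have hP : ∀ n, PicF.IsInvertible (CohB1.tensorPow L₁' n) := PicMul.isInvertible_tensorPow hL₁'
  have hQ : ∀ n, PicF.IsInvertible (CohB1.tensorPow L₁ n) := PicMul.isInvertible_tensorPow hL₁
  have hA : ∀ n, PicF.IsInvertible (A n) := fun n => InvX.isInvertible_tensorMod (hP n) hN₁
  have hB : ∀ n, PicF.IsInvertible (B n) := fun n => InvX.isInvertible_tensorMod (hQ n) hN₁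
  have hAn : ∀ n, Pic13Lib.NumTriv.IsNT k ((Scheme.Modules.pullback π).obj (CohB1.tensorPow L₁' n)) := fun n =>
    (hL'.pow k n).of_cl k (by
      show _ = PicF.pullCl π (PicF.cl (CohB1.tensorPow L₁' n))
      rw [PicMul.cl_tensorPow, PicMul.cl_tensorPow, PicMul.pullCl_pow]
      rfl)
  have hBn : ∀ n, Pic13Lib.NumTriv.IsNT k ((Scheme.Modules.pullback π).obj (CohB1.tensorPow L₁ n)) := fun n =>
    (hL.pow k n).of_cl k (by
      show _ = PicF.pullCl π (PicF.cl (CohB1.tensorPow L₁ n))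
      rw [PicMul.cl_tensorPow, PicMul.cl_tensorPow, PicMul.pullCl_pow, hcL])
  have hmono : ∀ n, ∃ g : A n ⟶ M, Mono g := fun n => by
    obtain ⟨s, hs⟩ := gen _ (hQ n) (hBn n) (Classical.arbitrary X₁)
    haveI := CurveAmple.mono_ofSect (hB n) (NefBig.ne_zero_of_mem_locus hs)
    exact NefBig.mono_of_mono_unit (InvX.ofSect s) (hA n) (by
      simp only [A, B, M, PicMul.cl_tensor, PicMul.cl_tensorPow]
      rw [mul_mul_mul_comm, ← mul_pow, h11, one_pow, one_mul])
  choose g hg using hmono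
  haveI : Finite Γ(M, ⊤) := by
    haveI := CurveCohLib.finite_HH (k := k₁) (AmpleVan.isCoh_invertible (InvX.isInvertible_tensorMod hN₁ hN₁)) 0
    haveI : Finite (Coh.HH X₁ M 0) := Module.finite_of_finite k₁
    exact Finite.of_equiv _ (Sheaf.H.equiv₀ (Coh.toAb M) isTerminalTop).toEquiv
  obtain ⟨a, c, hac, hr⟩ := Finite.exists_ne_map_eq_of_infinite fun n => Set.range ((g n).app ⊤)
  have hgen : ∀ n, ProjUP.GeneratedBy (A n) (fun s : Γ(A n, ⊤) => s) := fun n =>
    AVAmple.generatedBy_of_locus _ (gen _ (hP n) (hAn n))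
  haveI := hg a; haveI := hg c
  have h1 := cl_eq_of_sections (g a) (g c) (hgen a) (hgen c) hr
  simp only [A, PicMul.cl_tensor, PicMul.cl_tensorPow] at h1
  obtain ⟨⟨d, hd⟩, hdN'⟩ := PicMul.exists_inv (⟨PicF.cl N₁, N₁, rfl, hN₁⟩ : PicLoc.PicSet X₁)
  have hdN : PicF.cl N₁ * d = 1 := (mul_comm _ _).trans hdN'
  have h2 : PicF.cl L₁' ^ a = PicF.cl L₁' ^ c := by
    have := congrArg (· * d) h1
    simpa only [mul_assoc, hdN, mul_one] using this
  have fin : ∀ a c : ℕ, a < c → PicF.cl L₁' ^ a = PicF.cl L₁' ^ c → ∃ d, 0 < d ∧ PicF.cl L ^ d = 1 := by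
    intro a c hlt e
    refine ⟨c - a, by omega, ?_⟩
    have h3 := congrArg (fun z => z * PicF.cl L₁ ^ c) e
    simp only [← mul_pow] at h3
    rw [mul_comm (PicF.cl L₁') (PicF.cl L₁), h11, one_pow, show PicF.cl L₁ ^ c = PicF.cl L₁ ^ a * PicF.cl L₁ ^ (c - a) by
      rw [← pow_add, Nat.add_sub_cancel' hlt.le], ← mul_assoc, ← mul_pow, mul_comm (PicF.cl L₁') (PicF.cl L₁), h11,
      one_pow, one_mul] at h3
    rw [← hcL, ← PicMul.pullCl_pow, h3, PicMul.pullCl_one]
  rcases hac.lt_or_gt with h | h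
  · exact fin a c h h2
  · exact fin c a h h2.symm

end Groth.Agent.PicTorsFF
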