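import Groth.Agent.H23.TrivBasic
import Mathlib.AlgebraicGeometry.Morphisms.Flat
import Mathlib.LinearAlgebra.TensorProduct.Basis
import Mathlib.Algebra.Category.Ring.Constructions

/-!
# Sections after an extension of the base field
-/

set_option autoImplicit false
set_option linter.style.haveILetI false
set_option linter.unusedSectionVars false
set_option backward.isDefEq.respectTransparency false
set_option backward.isDefEq.respectTransparency.types false
set_option maxHeartbeats 1000000

universe u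

open CategoryTheory CategoryTheory.Limits AlgebraicGeometry TopologicalSpace TensorProduct

namespace Groth.Agent.PicTorsFF

open Groth.Agent Groth.Agent.AModX

variable {k₁ k : Type u} [Field k₁] [Field k] [Algebra k₁ k] {X X' : Scheme.{u}}
  {f : X ⟶ Spec (CommRingCat.of k₁)} {f' : X' ⟶ Spec (CommRingCat.of k)} {π : X' ⟶ X}

theorem pullElt_zero {M : X.Modules} (V : X.Opens) : InvX.pullElt π (0 : Γ(M, V)) = 0 :=
  map_zero (((Scheme.Modules.pullbackPushforwardAdjunction π).unit.app M).app V).hom

variable (f' π) in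
/-- A combination of inverse images of functions. -/
noncomputable def combR {ι : Type u} (c : ι → k) (V : X.Opens) (r : ι →₀ Γ(X, V)) : Γ(X', π ⁻¹ᵁ V) :=
  r.sum fun i a => resR (le_top : π ⁻¹ᵁ V ≤ ⊤) (Coh.toGlobal f' (c i)) * π.app V a

variable (f' π) in
/-- A combination of inverse images of sections. -/
noncomputable def comb {ι : Type u} (c : ι → k) (M : X.Modules) (V : X.Opens) (m : ι →₀ Γ(M, V)) :
    Γ((Scheme.Modules.pullback π).obj M, π ⁻¹ᵁ V) :=
  m.sum fun i x => resR (le_top : π ⁻¹ᵁ V ≤ ⊤) (Coh.toGlobal f' (c i)) • InvX.pullElt π x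

/-- Functions on an affine open after extending the field. -/
theorem bijective_combR (H : IsPullback π f' f (Spec.map (CommRingCat.ofHom (algebraMap k₁ k))))
    {ι : Type u} (c : Module.Basis ι k₁ k) {V : X.Opens} (hV : IsAffineOpen V) :
    Function.Bijective (combR f' π c V) := by
  classical
  let b := Spec.map (CommRingCat.ofHom (algebraMap k₁ k))
  haveI : Flat b := by
    rw [HasRingHomProperty.Spec_iff (P := @Flat)]
    show (algebraMap k₁ k).Flat
    rw [RingHom.flat_algebraMap_iff]
    infer_instance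
  have h := isIso_pushoutSection_of_isQuasiSeparated_of_flat_right H (US := ⊤) (UT := ⊤) (UX := V) (UY := π ⁻¹ᵁ V)
    (by simp) (by simp) (by simp) (isAffineOpen_top _) (isAffineOpen_top _) hV.isCompact hV.isQuasiSeparated
  rw [isIso_pushoutSection_iff] at h
  let φ : CommRingCat.of k₁ ⟶ Γ(X, V) :=
    (Scheme.ΓSpecIso (CommRingCat.of k₁)).inv ≫ f.appLE ⊤ V le_top
  have h' : IsPushout φ (CommRingCat.ofHom (algebraMap k₁ k)) (π.app V)
      ((Scheme.ΓSpecIso (CommRingCat.of k)).inv ≫ f'.appLE ⊤ (π ⁻¹ᵁ V) le_top) :=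
    h.of_iso (Scheme.ΓSpecIso _) (Iso.refl _) (Scheme.ΓSpecIso _) (Iso.refl _)
      (by simp [φ])
      (by
        rw [← Scheme.ΓSpecIso_naturality]
        simp [b, Scheme.Hom.appLE, Scheme.Hom.appTop])
      (by simp [Scheme.Hom.app_eq_appLE]) (by simp)
  letI : Algebra k₁ Γ(X, V) := φ.hom.toAlgebra
  let e := (CommRingCat.isPushout_tensorProduct k₁ k Γ(X, V)).isoIsPushout _ _ h'.flip
  let j := TensorProduct.equivFinsuppOfBasisLeft (N := Γ(X, V)) c
  have hb : Function.Bijective fun r : ι →₀ Γ(X, V) => e.hom.hom (j.symm r) :=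
    (ConcreteCategory.bijective_of_isIso e.hom).comp j.symm.bijective
  convert hb using 1
  funext r
  have hj : j.symm r = r.sum fun i a => c i ⊗ₜ[k₁] a :=
    (LinearMap.congr_fun (TensorProduct.equivFinsuppOfBasisLeft_symm (N := Γ(X, V)) c) r).trans (Finsupp.lsum_apply _ _ _)
  have hl : ∀ z : k, e.hom.hom (z ⊗ₜ[k₁] (1 : Γ(X, V))) =
      resR (le_top : π ⁻¹ᵁ V ≤ ⊤) (Coh.toGlobal f' z) := fun z => by
    refine (ConcreteCategory.congr_hom (IsPushout.inl_isoIsPushout_hom _ _ (CommRingCat.isPushout_tensorProduct k₁ k Γ(X, V)) h'.flip) z).trans ?_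
    simp [Coh.toGlobal, resR, Scheme.Hom.appLE, Scheme.Hom.appTop]
    rfl
  have hr : ∀ a : Γ(X, V), e.hom.hom ((1 : k) ⊗ₜ[k₁] a) = π.app V a := fun a =>
    ConcreteCategory.congr_hom (IsPushout.inr_isoIsPushout_hom _ _ (CommRingCat.isPushout_tensorProduct k₁ k Γ(X, V)) h'.flip) a
  rw [hj]
  show combR f' π c V r = e.hom.hom _
  rw [map_finsuppSum]
  refine Finsupp.sum_congr fun i _ => ?_
  rw [show c i ⊗ₜ[k₁] r i = (c i ⊗ₜ[k₁] (1 : Γ(X, V))) * ((1 : k) ⊗ₜ[k₁] r i) by
    rw [Algebra.TensorProduct.tmul_mul_tmul, mul_one, one_mul], map_mul, hl, hr]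

theorem comb_smul {ι : Type u} (c : ι → k) {M : X.Modules} {V : X.Opens} (r : ι →₀ Γ(X, V)) (e : Γ(M, V)) :
    comb f' π c M V (r.mapRange (fun a => a • e) (zero_smul _ _)) = combR f' π c V r • InvX.pullElt π e := by
  rw [comb, combR, Finsupp.sum_mapRange_index (fun i => by rw [pullElt_zero, smul_zero]), Finsupp.sum, Finsupp.sum, Finset.sum_smul]
  refine Finset.sum_congr rfl fun i _ => ?_
  rw [InvX.pullElt_smul, mul_smul]

theorem res_comb {ι : Type u} (c : ι → k) {M : X.Modules} {V W : X.Opens} (h : W ≤ V) (m : ι →₀ Γ(M, V)) :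
    res _ (π.preimage_mono h) (comb f' π c M V m) = comb f' π c M W (m.mapRange (res M h) (map_zero _)) := by
  rw [comb, comb, map_finsuppSum, Finsupp.sum_mapRange_index (fun i => by rw [pullElt_zero, smul_zero])]
  refine Finsupp.sum_congr fun i _ => ?_
  rw [res_smul, InvX.res_pullElt, resR_resR]

/-- Sections over an affine open on which the module is free, after extending the field. -/
theorem bijective_comb (H : IsPullback π f' f (Spec.map (CommRingCat.ofHom (algebraMap k₁ k))))
    {ι : Type u} (c : Module.Basis ι k₁ k) {M : X.Modules} {V : X.Opens} (hV : IsAffineOpen V) {e : Γ(M, V)}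
    (he : InvX.IsFrame e) : Function.Bijective (comb f' π c M V) := by
  have hb := bijective_combR H c hV
  have hpe : Function.Bijective fun g : Γ(X', π ⁻¹ᵁ V) => g • InvX.pullElt π e := by
    have := InvX.isFrame_pullElt π he (π ⁻¹ᵁ V) le_rfl
    simpa using this
  have hbe : Function.Bijective fun a : Γ(X, V) => a • e := by
    have := he V le_rfl
    simpa using this
  have hm : Function.Bijective fun r : ι →₀ Γ(X, V) =>
      (r.mapRange (fun a => a • e) (zero_smul _ _) : ι →₀ Γ(M, V)) := by
    refine ⟨Finsupp.mapRange_injective _ _ hbe.1, fun m => ?_⟩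
    exact Finsupp.mapRange_surjective _ _ hbe.2 m
  refine (Function.Bijective.of_comp_iff _ hm).1 ?_
  convert hpe.comp hb using 1
  funext r
  exact comb_smul (c : ι → k) r e

/-- Every section after extending the field is a combination of inverse images of sections. -/
theorem surjective_comb [CompactSpace X] [X.IsSeparated]
    (H : IsPullback π f' f (Spec.map (CommRingCat.ofHom (algebraMap k₁ k)))) {ι : Type u} (c : Module.Basis ι k₁ k)
    {M : X.Modules} (hM : PicF.IsInvertible M) : Function.Surjective (comb f' π c M ⊤) := by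
  classical
  intro σ
  choose U hU e he using fun x : X => InvX.exists_frame hM x
  choose V hV hxV hVU using fun x : X => exists_isAffineOpen_mem_and_subset (hU x)
  obtain ⟨t, ht⟩ := CompactSpace.elim_nhds_subcover (fun x => (V x : Set X)) fun x => (V x).2.mem_nhds (hxV x)
  have hf : ∀ x, InvX.IsFrame (res M (hVU x : V x ≤ U x) (e x)) := fun x => (he x).res _
  choose m hm using fun x : t => (bijective_comb H c (hV x.1) (hf x.1)).2
    (res _ (π.preimage_mono (le_top : V x.1 ≤ ⊤)) σ)
  have hcompat : ∀ x y : t, (m x).mapRange (res M (inf_le_left : V x.1 ⊓ V y.1 ≤ V x.1)) (map_zero _) =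
      (m y).mapRange (res M (inf_le_right : V x.1 ⊓ V y.1 ≤ V y.1)) (map_zero _) := fun x y => by
    refine (bijective_comb H c ((hV x.1).inf (hV y.1)) ((hf x.1).res inf_le_left)).1 ?_
    rw [← res_comb, ← res_comb, hm, hm, res_res, res_res]
  have hcov : ∀ p ∈ (⊤ : X.Opens), ∃ x : t, p ∈ V x.1 := fun p _ => by
    obtain ⟨x, hx, hpx⟩ := Set.mem_iUnion₂.1 (ht.ge (Set.mem_univ p))
    exact ⟨⟨x, hx⟩, hpx⟩
  choose s hs hsu using fun i : ι => existsUnique_glue (M := M) (fun x : t => V x.1) (fun x => le_top) hcov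
    (fun x => m x i) fun x y => by
      have := DFunLike.congr_fun (hcompat x y) i
      simpa only [Finsupp.mapRange_apply] using this
  let S := Finset.univ.biUnion fun x : t => (m x).support
  have hS : ∀ i, s i ≠ 0 → i ∈ S := fun i hi => by
    by_contra hiS
    refine hi (hsu i 0 fun x => ?_).symm
    rw [map_zero]
    by_contra hne
    exact hiS (Finset.mem_biUnion.2 ⟨x, Finset.mem_univ _, Finsupp.mem_support_iff.2 (Ne.symm hne)⟩)
  refine ⟨Finsupp.onFinset S s hS, eq_of_locally _ _ fun p _ => ?_⟩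
  obtain ⟨x, hx⟩ := hcov (π p) trivial
  refine ⟨π ⁻¹ᵁ V x.1, π.preimage_mono le_top, hx, ?_⟩
  rw [res_comb, ← hm x]
  refine congrArg _ (Finsupp.ext fun i => ?_)
  rw [Finsupp.mapRange_apply, Finsupp.onFinset_apply]
  exact hs i x

/-- A point in the locus of a section lies over a point in the locus of a section downstairs. -/
theorem exists_mem_locus [CompactSpace X] [X.IsSeparated]
    (H : IsPullback π f' f (Spec.map (CommRingCat.ofHom (algebraMap k₁ k))))
    {M : X.Modules} (hM : PicF.IsInvertible M) {σ : Γ((Scheme.Modules.pullback π).obj M, ⊤)} {y : X'}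
    (hy : y ∈ H23.TrivBasic.locus σ) : ∃ s : Γ(M, ⊤), π y ∈ H23.TrivBasic.locus s := by
  classical
  let c := Module.Basis.ofVectorSpace k₁ k
  obtain ⟨m, hm⟩ := surjective_comb H c hM σ
  obtain ⟨U, hU, e, he⟩ := InvX.exists_frame hM (π y)
  choose g hg using fun i => he.exists_coord le_rfl (res M (le_top : U ≤ ⊤) (m i))
  simp only [res_self] at hg
  let G : Γ(X', π ⁻¹ᵁ U) := ∑ i ∈ m.support, resR le_top (Coh.toGlobal f' (c i)) * π.app U (g i)
  have hG : res _ (le_top : π ⁻¹ᵁ U ≤ ⊤) σ = G • InvX.pullElt π e := by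
    rw [← hm]
    show res _ (π.preimage_mono (le_top : U ≤ ⊤)) (comb f' π c M ⊤ m) = _
    rw [res_comb (h := (le_top : U ≤ ⊤)), comb, Finsupp.sum_mapRange_index (fun i => by rw [pullElt_zero, smul_zero]), Finsupp.sum, Finset.sum_smul]
    refine Finset.sum_congr rfl fun i _ => ?_
    rw [hg i, InvX.pullElt_smul, mul_smul]
  have hy' : y ∈ X'.basicOpen G := by
    rw [← H23.TrivBasic.locus_eq_basicOpen (InvX.isFrame_pullElt π he) hG]
    exact ⟨hy, hU⟩
  rw [Scheme.mem_basicOpen _ _ _ (show y ∈ π ⁻¹ᵁ U from hU)] at hy'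
  by_contra hne
  push Not at hne
  revert hy'
  rw [map_sum]
  refine fun h => ?_
  obtain ⟨i, -, hi⟩ : ∃ i ∈ m.support,
      IsUnit (X'.presheaf.germ (π ⁻¹ᵁ U) y hU (resR le_top (Coh.toGlobal f' (c i)) * π.app U (g i))) := by
    by_contra hn
    push Not at hn
    have : ∀ t : Finset _, t ⊆ m.support → ¬ IsUnit (∑ i ∈ t,
        X'.presheaf.germ (π ⁻¹ᵁ U) y hU (resR le_top (Coh.toGlobal f' (c i)) * π.app U (g i))) := by
      intro t
      induction t using Finset.induction_on with
      | empty => intro _; simp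
      | @insert a t ha ih =>
        intro hsub
        rw [Finset.sum_insert ha]
        exact IsLocalRing.nonunits_add (hn a (hsub (Finset.mem_insert_self a t)))
          (ih fun z hz => hsub (Finset.mem_insert_of_mem hz))
    exact this _ subset_rfl h
  rw [map_mul] at hi
  have h1 : y ∈ X'.basicOpen (π.app U (g i)) := (Scheme.mem_basicOpen _ _ _ _).2 (isUnit_of_mul_isUnit_right hi)
  rw [← Scheme.preimage_basicOpen] at h1
  have h2 : π y ∈ X.basicOpen (g i) := h1
  rw [← H23.TrivBasic.locus_eq_basicOpen he (hg i)] at h2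
  exact hne (m i) h2.1

end Groth.Agent.PicTorsFF
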