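import Groth.Agent.PicTorsFF.Count
import Groth.Agent.PicTorsFF.Birational
import Groth.Agent.PicNormalProper.HomConst
import Groth.Agent.Pic13Lib.Bdd.Proper
import Groth.Agent.PicSepSmooth.Triv

/-!
# Numerically trivial classes on normal proper schemes over the algebraic closure of a finite field
-/

set_option autoImplicit false
set_option linter.style.haveILetI false
set_option backward.isDefEq.respectTransparency false
set_option backward.isDefEq.respectTransparency.types false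
set_option maxHeartbeats 1000000

universe u

open CategoryTheory CategoryTheory.Limits AlgebraicGeometry TopologicalSpace
open scoped Groth.Agent.H23.PicMul
open Groth.Agent.H23 Groth.Agent.H23.TrivBasic

namespace Groth.Agent.PicTorsFF

open Groth.Agent

variable (p : ℕ) [Fact p.Prime] {k : Type u} [Field k] [IsAlgClosed k] [CharP k p]

/-- The integral case. -/
theorem exists_pow_eq_one_of_integral (halg : ∀ x : k, ∃ n : ℕ, 0 < n ∧ x ^ (p ^ n) = x) {X : Scheme.{u}}
    [X.Over (Spec (CommRingCat.of k))] [IsProper (X ↘ Spec (CommRingCat.of k))] [IsIntegral X]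
    (hX : Pi1.IsNormalScheme X) {L : X.Modules} (hL : Pic13Lib.NumTriv.IsNT k L) :
    ∃ d : ℕ, 0 < d ∧ PicF.cl L ^ d = 1 := by
  obtain ⟨N, Z, q, i, hZ, hi, hq, hiq, hinj⟩ := exists_projective (X ↘ Spec (CommRingCat.of k)) hX
  haveI := hZ; haveI := hi; haveI := hq
  letI : Z.Over (Spec (CommRingCat.of k)) := ⟨q ≫ (X ↘ Spec (CommRingCat.of k))⟩
  haveI : IsProper (Z ↘ Spec (CommRingCat.of k)) := inferInstanceAs (IsProper (q ≫ (X ↘ Spec (CommRingCat.of k))))
  obtain ⟨d, hd, hdL⟩ := exists_pow_eq_one_of_projective p halg N i hiq (Pic13Lib.Bdd.isNT_pullback q rfl hL)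
  refine ⟨d, hd, ?_⟩
  rw [← PicMul.cl_tensorPow, PicMul.one_def]
  refine PicMul.cl_eq_iff.2 (hinj _ (PicMul.isInvertible_tensorPow hL.1 d) (PicMul.cl_eq_iff.1 ?_))
  show PicF.pullCl q (PicF.cl (CohB1.tensorPow L d)) = PicF.cl (Coh.structureModule Z)
  rw [PicMul.cl_tensorPow, PicMul.pullCl_pow, ← PicMul.one_def]
  exact hdL

/-- The normal case. -/
theorem exists_pow_eq_one (halg : ∀ x : k, ∃ n : ℕ, 0 < n ∧ x ^ (p ^ n) = x) {X : Scheme.{u}}
    [X.Over (Spec (CommRingCat.of k))] [IsProper (X ↘ Spec (CommRingCat.of k))]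
    (hX : Pi1.IsNormalScheme X) {L : X.Modules} (hL : Pic13Lib.NumTriv.IsNT k L) :
    ∃ d : ℕ, 0 < d ∧ Nonempty (CohB1.tensorPow L d ≅ Coh.structureModule X) := by
  obtain ⟨J, C, hdisj, hcov, hC⟩ := PicNormalProper.exists_pieces (X ↘ Spec (CommRingCat.of k)) hX
  haveI : CompactSpace X := QuasiCompact.compactSpace_of_compactSpace (X ↘ Spec (CommRingCat.of k))
  have hloc : ∀ a, ∃ d : ℕ, 0 < d ∧ PicF.pullCl (C a).ι (PicF.cl L) ^ d = 1 := fun a => by
    obtain ⟨h1, h2, h3⟩ := hC a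
    haveI := h1; haveI := h2
    letI : (C a).toScheme.Over (Spec (CommRingCat.of k)) := ⟨(C a).ι ≫ (X ↘ Spec (CommRingCat.of k))⟩
    haveI : IsProper ((C a).toScheme ↘ Spec (CommRingCat.of k)) :=
      inferInstanceAs (IsProper ((C a).ι ≫ (X ↘ Spec (CommRingCat.of k))))
    exact exists_pow_eq_one_of_integral p halg h3 (Pic13Lib.Bdd.isNT_pullback (C a).ι rfl hL)
  choose d hd hdL using hloc
  obtain ⟨t, ht⟩ := isCompact_univ.elim_finite_subcover (fun a => (C a : Set X)) (fun a => (C a).2)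
    (fun x _ => by
      obtain ⟨a, ha⟩ := Opens.mem_iSup.1 (hcov.ge (show x ∈ (⊤ : X.Opens) from trivial))
      exact Set.mem_iUnion.2 ⟨a, ha⟩)
  refine ⟨∏ a ∈ t, d a, Finset.prod_pos fun a _ => hd a, PicSepSmooth.triv_of_disjoint_cover C hdisj hcov fun a => ?_⟩
  refine PicMul.cl_eq_iff.1 ?_
  show PicF.pullCl (C a).ι (PicF.cl (CohB1.tensorPow L _)) = PicF.cl (Coh.structureModule _)
  rw [PicMul.cl_tensorPow, PicMul.pullCl_pow, ← PicMul.one_def]
  by_cases ha : a ∈ t
  · obtain ⟨c, hc⟩ := Finset.dvd_prod_of_mem d ha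
    rw [hc, pow_mul, hdL, one_pow]
  · obtain ⟨-, h2, -⟩ := hC a
    haveI := h2
    obtain ⟨z⟩ : Nonempty (C a).toScheme := inferInstance
    obtain ⟨b, hb, hzb⟩ := Set.mem_iUnion₂.1 (ht (Set.mem_univ z.1))
    have hne : a ≠ b := fun h => ha (h ▸ hb)
    have hz : z.1 ∈ C a ⊓ C b := ⟨z.2, hzb⟩
    rw [hdisj a b hne] at hz
    exact hz.elim

/-- An algebraic extension of an algebraic extension of the prime field. -/
theorem pow_eq_self_of_isAlgebraic {k₀ K : Type u} [Field k₀] [CharP k₀ p]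
    (halg : ∀ x : k₀, ∃ n : ℕ, 0 < n ∧ x ^ (p ^ n) = x) [Field K] [Algebra k₀ K] [Algebra.IsIntegral k₀ K] (x : K) :
    ∃ n : ℕ, 0 < n ∧ x ^ (p ^ n) = x := by
  obtain ⟨κ, hκ, hint⟩ := exists_finite_subfield p k₀ halg
  haveI := hκ; haveI := hint
  haveI : IsScalarTower κ k₀ K := inferInstance
  haveI : Algebra.IsIntegral κ K := Algebra.IsIntegral.trans (R := κ) k₀
  let F := IntermediateField.adjoin κ ({x} : Set K)
  haveI : FiniteDimensional κ F := IntermediateField.adjoin.finiteDimensional (Algebra.IsIntegral.isIntegral x)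
  haveI : Finite F := Module.finite_of_finite κ
  letI := Fintype.ofFinite F
  haveI : CharP K p := charP_of_injective_algebraMap (algebraMap k₀ K).injective p
  haveI : CharP F p := (algebraMap F K).charP (algebraMap F K).injective p
  obtain ⟨n, -, hn⟩ := FiniteField.card F p
  refine ⟨n, n.pos, ?_⟩
  have h1 := FiniteField.pow_card (⟨x, IntermediateField.mem_adjoin_simple_self κ x⟩ : F)
  rw [hn] at h1
  exact congrArg Subtype.val h1

end Groth.Agent.PicTorsFF
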